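import Mathlib.RingTheory.Etale.Field
import Mathlib.RingTheory.Flat.TorsionFree
import Mathlib.RingTheory.Flat.FaithfullyFlat.Algebra
import Mathlib.RingTheory.Ideal.GoingUp
import Mathlib.RingTheory.FiniteType

/-!
Étale fibres of a composite of finite maps of Dedekind domains.
-/

set_option autoImplicit false
universe u

open TensorProduct

namespace Groth.L21.EtaleFib

theorem isDedekindDomain_of_dim (k : Type u) [Field k] (B : Type u) [CommRing B] [IsDomain B]
    [IsIntegrallyClosed B] [Algebra k B] [Algebra.FiniteType k B] (hB : ringKrullDim B = 1) :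
    IsDedekindDomain B := by
  have : IsNoetherianRing B := Algebra.FiniteType.isNoetherianRing k B
  have : Ring.KrullDimLE 1 B := Ring.krullDimLE_iff.mpr (by rw [hB]; rfl)
  have : Ring.DimensionLEOne B := ⟨fun hne hp => hp.isMaximal_of_ne_bot hne⟩
  have : IsDedekindRing B := { }
  exact { }

/-- A finite type formally unramified algebra over a field is étale. -/
theorem etale_of_formallyUnramified (K : Type u) [Field K] (A : Type u) [CommRing A] [Algebra K A]
    [Algebra.FiniteType K A] [Algebra.FormallyUnramified K A] : Algebra.Etale K A := by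
  refine ⟨?_, Algebra.FinitePresentation.of_finiteType.mp inferInstance⟩
  exact Algebra.FormallyEtale.of_formallyUnramified_of_field K A

/-- A finite type subalgebra of an étale algebra over a field is étale. -/
theorem etale_of_injective (K : Type u) [Field K] {A B : Type u} [CommRing A] [CommRing B]
    [Algebra K A] [Algebra K B] [Algebra.FiniteType K A] [Algebra.Etale K B] (f : A →ₐ[K] B)
    (hf : Function.Injective f) : Algebra.Etale K A := by
  have hBfin : Module.Finite K B := Algebra.FormallyUnramified.finite_of_free K B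
  have hAfin : Module.Finite K A := Module.Finite.of_injective f.toLinearMap hf
  have hBred : IsReduced B := Algebra.FormallyUnramified.isReduced_of_field K B
  have hAred : IsReduced A := isReduced_of_injective f hf
  have : IsArtinianRing A := IsArtinianRing.of_finite K A
  have : IsArtinianRing B := IsArtinianRing.of_finite K B
  letI : Algebra A B := f.toRingHom.toAlgebra
  have : IsScalarTower K A B := IsScalarTower.of_algebraMap_eq fun x => (f.commutes x).symm
  have : Module.Finite A B := Module.Finite.of_restrictScalars_finite K A B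
  have hint : Algebra.IsIntegral A B := Algebra.IsIntegral.of_finite A B
  letI : ∀ m : MaximalSpectrum A, Field (A ⧸ m.asIdeal) :=
    fun m => Ideal.Quotient.field m.asIdeal
  have hsep : ∀ m : MaximalSpectrum A, Algebra.FormallyEtale K (A ⧸ m.asIdeal) := fun m => by
    obtain ⟨q, hqp, hq⟩ := Ideal.exists_ideal_over_prime_of_isIntegral (S := B) m.asIdeal ⊥
      (le_trans (le_of_eq ((RingHom.injective_iff_ker_eq_bot _).mp hf)) bot_le)
    obtain ⟨hqprime, hqcomap⟩ := hq
    let g : (A ⧸ m.asIdeal) →ₐ[K] (B ⧸ q) :=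
      Ideal.Quotient.liftₐ m.asIdeal ((Ideal.Quotient.mkₐ K q).comp f) (fun a ha => by
        rw [← hqcomap] at ha
        exact Ideal.Quotient.eq_zero_iff_mem.mpr ha)
    letI : Field (B ⧸ q) :=
      @Ideal.Quotient.field _ _ q (IsArtinianRing.isMaximal_of_isPrime q)
    have : Algebra.IsSeparable K (B ⧸ q) := inferInstance
    have : Algebra.IsSeparable K (A ⧸ m.asIdeal) := Algebra.IsSeparable.of_algHom K (B ⧸ q) g
    exact Algebra.FormallyEtale.of_isSeparable K (A ⧸ m.asIdeal)
  refine ⟨?_, Algebra.FinitePresentation.of_finiteType.mp inferInstance⟩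
  exact .of_equiv ((IsArtinianRing.equivPi A).restrictScalars K).symm

section Fibre

variable {A B C : Type u} [CommRing A] [CommRing B] [CommRing C]
  [Algebra A B] [Algebra B C] [Algebra A C] [IsScalarTower A B C] (P : Ideal A)

/-- The natural map of fibres over `P`. -/
noncomputable def fibreMap : (A ⧸ P) ⊗[A] B →ₐ[A ⧸ P] (A ⧸ P) ⊗[A] C :=
  Algebra.TensorProduct.map (AlgHom.id (A ⧸ P) (A ⧸ P)) (IsScalarTower.toAlgHom A B C)

theorem fibreMap_injective [Module.FaithfullyFlat B C] :
    Function.Injective (fibreMap (B := B) (C := C) P) := by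
  rw [injective_iff_map_eq_zero]
  intro x hx
  obtain ⟨b, rfl⟩ := Algebra.TensorProduct.includeRight_surjective (R := A) (S := A ⧸ P) (T := B)
    Ideal.Quotient.mk_surjective x
  let ψ : (A ⧸ P) ⊗[A] C →ₐ[A] C ⧸ P.map (algebraMap A C) :=
    Algebra.TensorProduct.lift
      (Ideal.Quotient.liftₐ P (Algebra.ofId A _) (fun a ha => by
        rw [Algebra.ofId_apply, IsScalarTower.algebraMap_apply A C (C ⧸ P.map (algebraMap A C)),
          Ideal.Quotient.algebraMap_eq, Ideal.Quotient.eq_zero_iff_mem]
        exact Ideal.mem_map_of_mem _ ha))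
      (Ideal.Quotient.mkₐ A _) (fun _ _ => Commute.all _ _)
  have h0 : algebraMap B C b ∈ P.map (algebraMap A C) := by
    have h2 := congrArg ψ hx
    rw [← Ideal.Quotient.eq_zero_iff_mem]
    simpa [fibreMap, ψ] using h2
  have h1 : b ∈ P.map (algebraMap A B) := by
    rw [IsScalarTower.algebraMap_eq A B C, ← Ideal.map_map] at h0
    rw [← Ideal.comap_map_eq_self_of_faithfullyFlat (B := C) (P.map (algebraMap A B))]
    exact h0
  have h3 : P.map (algebraMap A B) ≤ RingHom.ker
      (Algebra.TensorProduct.includeRight : B →ₐ[A] (A ⧸ P) ⊗[A] B).toRingHom := by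
    rw [Ideal.map_le_iff_le_comap]
    intro a ha
    simp only [Ideal.mem_comap, RingHom.mem_ker, AlgHom.toRingHom_eq_coe, RingHom.coe_coe]
    rw [AlgHom.commutes, Algebra.TensorProduct.algebraMap_apply,
      Ideal.Quotient.algebraMap_eq, Ideal.Quotient.eq_zero_iff_mem.mpr ha, zero_tmul]
  exact h3 h1

/-- The fibre of `C` over a prime `Q` of `B` over `P` is a quotient of the fibre over `P`. -/
theorem fibre_fu (Q : Ideal B) [Q.LiesOver P]
    [Algebra.FormallyUnramified (A ⧸ P) ((A ⧸ P) ⊗[A] C)] :
    Algebra.FormallyUnramified (B ⧸ Q) ((B ⧸ Q) ⊗[B] C) := by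
  let g : C →ₐ[A] (B ⧸ Q) ⊗[B] C :=
    (Algebra.TensorProduct.includeRight : C →ₐ[B] (B ⧸ Q) ⊗[B] C).restrictScalars A
  let φ : (A ⧸ P) ⊗[A] C →ₐ[A ⧸ P] (B ⧸ Q) ⊗[B] C :=
    Algebra.TensorProduct.lift (Algebra.ofId (A ⧸ P) _) g (fun _ _ => Commute.all _ _)
  have hφ : Function.Surjective φ := by
    intro y
    induction y with
    | zero => exact ⟨0, map_zero _⟩
    | tmul q c =>
      obtain ⟨b, rfl⟩ := Ideal.Quotient.mk_surjective q
      refine ⟨1 ⊗ₜ (b • c), ?_⟩
      simp only [φ, g, Algebra.TensorProduct.lift_tmul, map_one, one_mul,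
        AlgHom.restrictScalars_apply, Algebra.TensorProduct.includeRight_apply]
      rw [← smul_tmul, Algebra.smul_def, mul_one]
      rfl
    | add y₁ y₂ h₁ h₂ =>
      obtain ⟨x₁, rfl⟩ := h₁
      obtain ⟨x₂, rfl⟩ := h₂
      exact ⟨x₁ + x₂, map_add _ _ _⟩
  have := Algebra.FormallyUnramified.of_surjective φ hφ
  exact Algebra.FormallyUnramified.of_restrictScalars (A ⧸ P) (B ⧸ Q) _

end Fibre

end Groth.L21.EtaleFib
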